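import Mathlib
set_option linter.all false

/-!
# Nilpotent minimal covers

A local criterion: if `𝓐` is a minimal cover of `G` by proper subgroups, all nilpotent, and `M` is a proper
subgroup, then the elements `x` of `G` all of whose nilpotent overgroups lie in `M` lie in one single member of
`𝓐`, so they generate a nilpotent subgroup.
-/

set_option autoImplicit false

namespace Cfsg.Agent.H473

variable {G : Type*} [Group G]

/-- `𝓐` is a cover of `G` by proper subgroups. -/
def IsCover (𝓐 : Finset (Subgroup G)) : Prop :=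
  (∀ A ∈ 𝓐, A ≠ ⊤) ∧ (∀ g : G, ∃ A ∈ 𝓐, g ∈ A)

/-- `𝓐` is a minimal cover consisting of nilpotent subgroups. -/
def IsNilMinCover (𝓐 : Finset (Subgroup G)) : Prop :=
  IsCover 𝓐 ∧ (∀ 𝓑 : Finset (Subgroup G), IsCover 𝓑 → 𝓐.card ≤ 𝓑.card) ∧
    (∀ A ∈ 𝓐, Group.IsNilpotent ↥A)

/-- In a minimal cover, a proper subgroup contains at most one member. -/
theorem IsNilMinCover.eq_of_le {𝓐 : Finset (Subgroup G)} (h : IsNilMinCover 𝓐) {M : Subgroup G}
    (hM : M ≠ ⊤) {A B : Subgroup G} (hA : A ∈ 𝓐) (hB : B ∈ 𝓐) (hAM : A ≤ M) (hBM : B ≤ M) : A = B := by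
  classical
  by_contra hne
  have hBA : B ∈ 𝓐.erase A := Finset.mem_erase.2 ⟨fun e => hne e.symm, hB⟩
  have hcov : IsCover (insert M ((𝓐.erase A).erase B)) := by
    refine ⟨?_, ?_⟩
    · intro C hC
      rcases Finset.mem_insert.1 hC with rfl | hC
      · exact hM
      · exact h.1.1 C (Finset.mem_of_mem_erase (Finset.mem_of_mem_erase hC))
    · intro g
      obtain ⟨C, hC, hg⟩ := h.1.2 g
      by_cases h1 : C = A
      · exact ⟨M, Finset.mem_insert_self _ _, hAM (h1 ▸ hg)⟩
      · by_cases h2 : C = B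
        · exact ⟨M, Finset.mem_insert_self _ _, hBM (h2 ▸ hg)⟩
        · exact ⟨C, Finset.mem_insert_of_mem (Finset.mem_erase.2 ⟨h2, Finset.mem_erase.2 ⟨h1, hC⟩⟩), hg⟩
  have h1 := h.2.1 _ hcov
  have h2 := Finset.card_insert_le M ((𝓐.erase A).erase B)
  have h3 := Finset.card_erase_lt_of_mem hBA
  have h4 := Finset.card_erase_lt_of_mem hA
  omega

/-- The elements all of whose nilpotent overgroups lie in the proper subgroup `M` lie in one nilpotent subgroup
contained in `M`. -/
theorem IsNilMinCover.exists_common {𝓐 : Finset (Subgroup G)} (h : IsNilMinCover 𝓐) {M : Subgroup G}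
    (hM : M ≠ ⊤) (S : Set G) (hS : ∀ x ∈ S, ∀ N : Subgroup G, Group.IsNilpotent ↥N → x ∈ N → N ≤ M) :
    ∃ A : Subgroup G, Group.IsNilpotent ↥A ∧ A ≤ M ∧ S ⊆ A := by
  by_cases hne : S.Nonempty
  · obtain ⟨x, hx⟩ := hne
    obtain ⟨A, hA, hxA⟩ := h.1.2 x
    have hAM := hS x hx A (h.2.2 A hA) hxA
    refine ⟨A, h.2.2 A hA, hAM, fun y hy => ?_⟩
    obtain ⟨B, hB, hyB⟩ := h.1.2 y
    have hBM := hS y hy B (h.2.2 B hB) hyB
    have := h.eq_of_le hM hA hB hAM hBM
    rw [this]
    exact hyB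
  · refine ⟨⊥, inferInstance, bot_le, ?_⟩
    intro x hx
    exact absurd ⟨x, hx⟩ hne

/-- Replacement principle: in a minimal cover one cannot replace a subfamily by a smaller family of
proper subgroups with larger union. -/
theorem IsNilMinCover.card_le_of_replace [DecidableEq (Subgroup G)] {𝓐 : Finset (Subgroup G)} (h : IsNilMinCover 𝓐)
    (𝓢 𝓜 : Finset (Subgroup G)) (hS : 𝓢 ⊆ 𝓐) (hM : ∀ M ∈ 𝓜, M ≠ ⊤)
    (hcov : ∀ A ∈ 𝓢, ∀ g ∈ A, (∃ M ∈ 𝓜, g ∈ M) ∨ ∃ B ∈ 𝓐 \ 𝓢, g ∈ B) : 𝓢.card ≤ 𝓜.card := by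
  have hc : IsCover ((𝓐 \ 𝓢) ∪ 𝓜) := by
    refine ⟨?_, ?_⟩
    · intro C hC
      rcases Finset.mem_union.1 hC with hC | hC
      · exact h.1.1 C (Finset.mem_sdiff.1 hC).1
      · exact hM C hC
    · intro g
      obtain ⟨C, hC, hg⟩ := h.1.2 g
      by_cases hCS : C ∈ 𝓢
      · rcases hcov C hCS g hg with ⟨M, hM1, hM2⟩ | ⟨B, hB1, hB2⟩
        · exact ⟨M, Finset.mem_union_right _ hM1, hM2⟩
        · exact ⟨B, Finset.mem_union_left _ hB1, hB2⟩
      · exact ⟨C, Finset.mem_union_left _ (Finset.mem_sdiff.2 ⟨hC, hCS⟩), hg⟩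
  have h1 := h.2.1 _ hc
  have h2 := Finset.card_union_le (𝓐 \ 𝓢) 𝓜
  have h3 := Finset.card_sdiff_add_card_eq_card hS
  omega

/-- In a nilpotent subgroup `N` of a group, for a nontrivial element `x` of `N` there is a nontrivial element of `N`
that commutes with every element of `N`. -/
theorem exists_central_of_nilpotent {N : Subgroup G} (hN : Group.IsNilpotent ↥N) {x : G} (hx : x ∈ N)
    (hx1 : x ≠ 1) : ∃ z ∈ N, z ≠ 1 ∧ ∀ g ∈ N, g * z = z * g := by
  haveI : Nontrivial ↥N := ⟨⟨⟨x, hx⟩, 1, fun e => hx1 (by simpa using congrArg Subtype.val e)⟩⟩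
  haveI := hN
  have hc : Nontrivial (Subgroup.center ↥N) := by
    rw [Subgroup.nontrivial_iff_ne_bot]
    intro hbot
    have := Group.IsNilpotent.nilpotent ↥N
    obtain ⟨n, hn⟩ := this
    have : ∀ k, Subgroup.upperCentralSeries ↥N k = ⊥ := by
      intro k
      induction k with
      | zero => exact Subgroup.upperCentralSeries_zero _
      | succ k ih =>
        rw [eq_bot_iff]
        intro y hy
        rw [Subgroup.mem_upperCentralSeries_succ_iff] at hy
        have hyc : y ∈ Subgroup.center ↥N := by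
          rw [Subgroup.mem_center_iff]
          intro g
          have := hy g
          rw [ih, Subgroup.mem_bot] at this
          have h2 : y * g * y⁻¹ = g := by
            have := mul_inv_eq_one.1 this
            exact this
          rw [mul_inv_eq_iff_eq_mul] at h2
          exact h2.symm
        rw [hbot] at hyc
        exact hyc
    rw [this n] at hn
    exact bot_ne_top hn
  obtain ⟨⟨z, hz⟩, hz1⟩ := exists_ne (1 : Subgroup.center ↥N)
  refine ⟨z, z.2, ?_, ?_⟩
  · intro e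
    apply hz1
    apply Subtype.ext
    apply Subtype.ext
    exact e
  · intro g hg
    have := Subgroup.mem_center_iff.1 hz ⟨g, hg⟩
    exact congrArg Subtype.val this

end Cfsg.Agent.H473
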